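import Cfsg.Agent.H510.UCert

/-!
# Certificate for `PSU(12, 3)` (helper510; generated)
-/

set_option autoImplicit false

namespace Cfsg.Agent.H510.U

open Cfsg.Agent.H510.UCert

def U12_3 : UD where
  n := 12
  q := 3
  p := 3
  a := 1
  fac := [
    (2, 34), (5, 3), (7, 4), (11, 2), (13, 2), (19, 1), (37, 1), (41, 1), (61, 2), (67, 1), (73, 1), (547, 1),
    (661, 1)]
  tops := [
    (7, 547), (8, 41), (9, 37), (10, 11), (11, 661), (12, 73)]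
  A := [
    (61, 31), (67, 17), (547, 137), (661, 331)]
  B := [
    (2, ⟨37, 109, 36, 36, [(2, 2, 2), (3, 2, 2)], 2, 2⟩, ⟨661, 1321, 660, 60, [(2, 2, 2), (3, 1, 1), (5, 1, 1)],
    2, 1⟩),
    (5, ⟨547, 43, 546, 42, [(2, 1, 1), (3, 1, 1), (7, 1, 1)], 1, 1⟩, ⟨11, 71, 5, 5, [(5, 1, 1)], 0, 0⟩),
    (7, ⟨547, 43, 546, 6, [(2, 1, 1), (3, 1, 1)], 1, 1⟩, ⟨11, 191, 10, 10, [(2, 1, 1), (5, 1, 1)], 1, 0⟩),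
    (11, ⟨547, 79, 39, 39, [(3, 1, 1), (13, 1, 1)], 0, 1⟩, ⟨661, 1453, 33, 33, [(3, 1, 1), (11, 1, 1)], 0, 1⟩),
    (13, ⟨661, 17, 220, 4, [(2, 2, 2)], 2, 0⟩, ⟨547, 43, 21, 21, [(3, 1, 1), (7, 1, 1)], 0, 1⟩),
    (19, ⟨41, 17, 40, 8, [(2, 3, 3)], 3, 0⟩, ⟨37, 109, 36, 36, [(2, 2, 2), (3, 2, 2)], 2, 2⟩),
    (37, ⟨547, 31, 546, 6, [(2, 1, 1), (3, 1, 1)], 1, 1⟩, ⟨73, 127, 9, 9, [(3, 2, 2)], 0, 2⟩),
    (41, ⟨661, 1723, 165, 3, [(3, 1, 1)], 0, 1⟩, ⟨11, 4111, 10, 10, [(2, 1, 1), (5, 1, 1)], 1, 0⟩),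
    (73, ⟨11, 131, 10, 10, [(2, 1, 1), (5, 1, 1)], 1, 0⟩, ⟨547, 1801, 273, 3, [(3, 1, 1)], 0, 1⟩)]
  ch := [
    (4111, 12, [(2, 1), (3, 1), (5, 1), (137, 1)])]

set_option maxRecDepth 100000 in
theorem U12_3_ok : ldU U12_3 = true := by decide +kernel

end Cfsg.Agent.H510.U
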