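import Cfsg.Agent.H510.UCert

/-!
# Certificate for `PSU(20, 3)` (helper510; generated)
-/

set_option autoImplicit false

namespace Cfsg.Agent.H510.U

open Cfsg.Agent.H510.UCert

def U20_3 : UD where
  n := 20
  q := 3
  p := 3
  a := 1
  fac := [
    (2, 58), (5, 6), (7, 6), (11, 4), (13, 3), (17, 1), (19, 2), (31, 1), (37, 2), (41, 2), (61, 4), (67, 1),
    (73, 1), (103, 1), (193, 1), (271, 1), (307, 1), (547, 2), (661, 1), (757, 1), (1021, 1), (1093, 1), (1181,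
    1), (2851, 1), (101917, 1), (398581, 1)]
  tops := [
    (11, 67), (12, 73), (13, 398581), (14, 1093), (15, 31), (16, 193), (17, 1021), (18, 757), (19, 2851), (20,
    1181)]
  A := [
    (193, 97), (547, 137), (661, 331), (757, 379), (1181, 59), (2851, 23), (101917, 131), (398581, 617)]
  B := [
    (2, ⟨1093, 29, 364, 28, [(2, 2, 2), (7, 1, 1)], 2, 0⟩, ⟨1021, 137, 340, 68, [(2, 2, 2), (17, 1, 1)], 2, 0⟩),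
    (5, ⟨67, 23, 22, 22, [(2, 1, 1), (11, 1, 1)], 1, 0⟩, ⟨2851, 71, 95, 5, [(5, 1, 1)], 0, 0⟩),
    (7, ⟨67, 43, 66, 6, [(2, 1, 1), (3, 1, 1)], 1, 1⟩, ⟨398581, 43, 39858, 6, [(2, 1, 1), (3, 1, 1)], 1, 1⟩),
    (11, ⟨2851, 151, 1425, 75, [(3, 1, 1), (5, 2, 2)], 0, 1⟩, ⟨193, 257, 64, 64, [(2, 6, 6)], 6, 0⟩),
    (13, ⟨1093, 79, 39, 39, [(3, 1, 1), (13, 1, 1)], 0, 1⟩, ⟨67, 157, 66, 6, [(2, 1, 1), (3, 1, 1)], 1, 1⟩),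
    (17, ⟨757, 433, 189, 27, [(3, 3, 3)], 0, 3⟩, ⟨1181, 1063, 295, 59, [(59, 1, 1)], 0, 0⟩),
    (19, ⟨73, 109, 36, 36, [(2, 2, 2), (3, 2, 2)], 2, 2⟩, ⟨67, 127, 33, 3, [(3, 1, 1)], 0, 1⟩),
    (31, ⟨398581, 71, 66430, 70, [(2, 1, 1), (5, 1, 1), (7, 1, 1)], 1, 0⟩, ⟨1181, 181, 1180, 20, [(2, 2, 2), (5,
    1, 1)], 2, 0⟩),
    (37, ⟨31, 43, 6, 6, [(2, 1, 1), (3, 1, 1)], 1, 1⟩, ⟨2851, 43, 2850, 6, [(2, 1, 1), (3, 1, 1)], 1, 1⟩),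
    (41, ⟨1093, 109, 1092, 12, [(2, 2, 2), (3, 1, 1)], 2, 1⟩, ⟨398581, 131, 4745, 65, [(5, 1, 1), (13, 1, 1)],
    0, 0⟩),
    (61, ⟨2851, 97, 1425, 3, [(3, 1, 1)], 0, 1⟩, ⟨398581, 157, 398580, 156, [(2, 2, 2), (3, 1, 1), (13, 1, 1)],
    2, 1⟩),
    (67, ⟨398581, 43, 19929, 21, [(3, 1, 1), (7, 1, 1)], 0, 1⟩, ⟨193, 97, 32, 32, [(2, 5, 5)], 5, 0⟩),
    (73, ⟨398581, 131, 66430, 10, [(2, 1, 1), (5, 1, 1)], 1, 0⟩, ⟨1021, 137, 85, 17, [(17, 1, 1)], 0, 0⟩),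
    (103, ⟨1093, 79, 546, 6, [(2, 1, 1), (3, 1, 1)], 1, 1⟩, ⟨1021, 97, 1020, 12, [(2, 2, 2), (3, 1, 1)], 2, 1⟩),
    (271, ⟨398581, 43, 1533, 21, [(3, 1, 1), (7, 1, 1)], 0, 1⟩, ⟨1021, 101, 340, 20, [(2, 2, 2), (5, 1, 1)], 2,
    0⟩),
    (307, ⟨67, 43, 33, 3, [(3, 1, 1)], 0, 1⟩, ⟨31, 43, 15, 3, [(3, 1, 1)], 0, 1⟩),
    (1021, ⟨757, 109, 756, 108, [(2, 2, 2), (3, 3, 3)], 2, 3⟩, ⟨398581, 127, 199290, 42, [(2, 1, 1), (3, 1, 1),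
    (7, 1, 1)], 1, 1⟩),
    (1093, ⟨193, 97, 96, 96, [(2, 5, 5), (3, 1, 1)], 5, 1⟩, ⟨757, 109, 189, 27, [(3, 3, 3)], 0, 3⟩)]
  ch := [
    (101917, 5, [(2, 2), (3, 2), (19, 1), (149, 1)]),
    (398581, 2, [(2, 2), (3, 1), (5, 1), (7, 1), (13, 1), (73, 1)])]

set_option maxRecDepth 100000 in
theorem U20_3_ok : ldU U20_3 = true := by decide +kernel

end Cfsg.Agent.H510.U
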