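import Cfsg.Agent.H510.UCert

/-!
# Certificate for `PSU(18, 17)` (helper510; generated)
-/

set_option autoImplicit false

namespace Cfsg.Agent.H510.U

open Cfsg.Agent.H510.UCert

def U18_17 : UD where
  n := 18
  q := 17
  p := 17
  a := 1
  fac := [
    (2, 61), (3, 44), (5, 4), (7, 6), (11, 3), (13, 6), (19, 1), (23, 1), (29, 4), (31, 1), (53, 1), (71, 3),
    (79, 1), (101, 3), (307, 3), (947, 1), (1423, 2), (5653, 2), (18913, 1), (41761, 2), (65651, 1), (83233, 1),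
    (88741, 1), (184417, 1), (1270657, 1), (2001793, 1), (22796593, 2), (25646167, 1), (87415373, 1),
    (238212511, 1), (45957792327018709121, 1)]
  tops := [
    (10, 88741), (11, 23), (12, 83233), (13, 79), (14, 25646167), (15, 31), (16, 18913), (17,
    45957792327018709121), (18, 19)]
  A := [
    (947, 43), (1423, 89), (5653, 157), (18913, 193), (41761, 157), (65651, 5471), (83233, 41617), (88741,
    44371), (184417, 41), (1270657, 1103), (2001793, 83), (22796593, 367687), (25646167, 229), (87415373,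
    1986713), (238212511, 37), (45957792327018709121, 283690076092708081)]
  B := [
    (2, ⟨88741, 37, 88740, 36, [(2, 2, 2), (3, 2, 2)], 2, 2⟩, ⟨25646167, 73, 4274361, 9, [(3, 2, 2)], 0, 2⟩),
    (3, ⟨19, 37, 18, 18, [(2, 1, 1), (3, 2, 2)], 1, 2⟩, ⟨18913, 73, 2364, 12, [(2, 2, 2), (3, 1, 1)], 2, 1⟩),
    (5, ⟨23, 67, 22, 22, [(2, 1, 1), (11, 1, 1)], 1, 0⟩, ⟨25646167, 163, 25646166, 54, [(2, 1, 1), (3, 3, 3)],
    1, 3⟩),
    (7, ⟨79, 43, 78, 6, [(2, 1, 1), (3, 1, 1)], 1, 1⟩, ⟨18913, 97, 18912, 96, [(2, 5, 5), (3, 1, 1)], 5, 1⟩),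
    (11, ⟨31, 37, 30, 6, [(2, 1, 1), (3, 1, 1)], 1, 1⟩, ⟨23, 89, 22, 22, [(2, 1, 1), (11, 1, 1)], 1, 0⟩),
    (13, ⟨79, 61, 39, 3, [(3, 1, 1)], 0, 1⟩, ⟨18913, 97, 18912, 96, [(2, 5, 5), (3, 1, 1)], 5, 1⟩),
    (19, ⟨25646167, 43, 2849574, 42, [(2, 1, 1), (3, 1, 1), (7, 1, 1)], 1, 1⟩, ⟨18913, 97, 6304, 32, [(2, 5,
    5)], 5, 0⟩),
    (23, ⟨31, 41, 10, 10, [(2, 1, 1), (5, 1, 1)], 1, 0⟩, ⟨88741, 73, 88740, 36, [(2, 2, 2), (3, 2, 2)], 2, 2⟩),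
    (29, ⟨83233, 97, 27744, 96, [(2, 5, 5), (3, 1, 1)], 5, 1⟩, ⟨25646167, 109, 25646166, 54, [(2, 1, 1), (3, 3,
    3)], 1, 3⟩),
    (31, ⟨18913, 193, 18912, 96, [(2, 5, 5), (3, 1, 1)], 5, 1⟩, ⟨45957792327018709121, 257,
    45957792327018709120, 128, [(2, 7, 7)], 7, 0⟩),
    (53, ⟨23, 67, 22, 22, [(2, 1, 1), (11, 1, 1)], 1, 0⟩, ⟨25646167, 673, 949858, 14, [(2, 1, 1), (7, 1, 1)], 1,
    0⟩),
    (71, ⟨19, 73, 18, 18, [(2, 1, 1), (3, 2, 2)], 1, 2⟩, ⟨18913, 113, 3152, 16, [(2, 4, 4)], 4, 0⟩),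
    (79, ⟨88741, 37, 88740, 36, [(2, 2, 2), (3, 2, 2)], 2, 2⟩, ⟨45957792327018709121, 41, 2872362020438669320,
    8, [(2, 3, 3)], 3, 0⟩),
    (101, ⟨25646167, 43, 1424787, 21, [(3, 1, 1), (7, 1, 1)], 0, 1⟩, ⟨88741, 61, 29580, 12, [(2, 2, 2), (3, 1,
    1)], 2, 1⟩),
    (307, ⟨83233, 37, 1734, 6, [(2, 1, 1), (3, 1, 1)], 1, 1⟩, ⟨79, 37, 78, 6, [(2, 1, 1), (3, 1, 1)], 1, 1⟩)]
  ch := [
    (5471, 7, [(2, 1), (5, 1), (547, 1)]),
    (5653, 5, [(2, 2), (3, 2), (157, 1)]),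
    (18913, 7, [(2, 5), (3, 1), (197, 1)]),
    (41617, 5, [(2, 4), (3, 2), (17, 2)]),
    (41761, 19, [(2, 5), (3, 2), (5, 1), (29, 1)]),
    (44371, 2, [(2, 1), (3, 2), (5, 1), (17, 1), (29, 1)]),
    (65651, 2, [(2, 1), (5, 2), (13, 1), (101, 1)]),
    (83233, 7, [(2, 5), (3, 2), (17, 2)]),
    (88741, 2, [(2, 2), (3, 2), (5, 1), (17, 1), (29, 1)]),
    (184417, 10, [(2, 5), (3, 1), (17, 1), (113, 1)]),
    (367687, 3, [(2, 1), (3, 3), (11, 1), (619, 1)]),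
    (1270657, 5, [(2, 7), (3, 2), (1103, 1)]),
    (1986713, 3, [(2, 3), (7, 1), (13, 1), (2729, 1)]),
    (2001793, 7, [(2, 7), (3, 1), (13, 1), (401, 1)]),
    (22796593, 15, [(2, 4), (3, 1), (7, 1), (13, 1), (17, 1), (307, 1)]),
    (25646167, 3, [(2, 1), (3, 3), (7, 1), (13, 1), (17, 1), (307, 1)]),
    (87415373, 2, [(2, 2), (11, 1), (1986713, 1)]),
    (5639, 7, [(2, 1), (2819, 1)]),
    (11279, 7, [(2, 1), (5639, 1)]),
    (7940417, 3, [(2, 6), (11, 1), (11279, 1)]),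
    (238212511, 3, [(2, 1), (3, 1), (5, 1), (7940417, 1)]),
    (28387, 2, [(2, 1), (3, 2), (19, 1), (83, 1)]),
    (53923, 5, [(2, 1), (3, 1), (11, 1), (19, 1), (43, 1)]),
    (283690076092708081, 7, [(2, 4), (3, 1), (5, 1), (19, 1), (97, 1), (419, 1), (28387, 1), (53923, 1)]),
    (45957792327018709121, 6, [(2, 7), (5, 1), (17, 1), (29, 1), (18913, 1), (41761, 1), (184417, 1)])]

set_option maxRecDepth 100000 in
theorem U18_17_ok : ldU U18_17 = true := by decide +kernel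

end Cfsg.Agent.H510.U
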