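import Cfsg.Agent.H510.UCert

/-!
# Certificate for `PSU(18, 5)` (helper510; generated)
-/

set_option autoImplicit false

namespace Cfsg.Agent.H510.U

open Cfsg.Agent.H510.UCert

def U18_5 : UD where
  n := 18
  q := 5
  p := 5
  a := 1
  fac := [
    (2, 43), (3, 26), (7, 6), (11, 1), (13, 4), (17, 1), (19, 1), (23, 1), (29, 2), (31, 3), (61, 1), (67, 1),
    (71, 1), (313, 2), (449, 2), (521, 3), (601, 1), (829, 1), (3061, 1), (5167, 2), (5227, 1), (5281, 1),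
    (7621, 1), (11489, 1), (19531, 1), (38923, 1), (41540861, 1)]
  tops := [
    (10, 71), (11, 23), (12, 601), (13, 38923), (14, 19531), (15, 61), (16, 17), (17, 3061), (18, 829)]
  A := [
    (313, 157), (601, 43), (829, 83), (3061, 1531), (5167, 41), (5227, 1307), (5281, 139), (7621, 37), (11489,
    359), (19531, 257), (38923, 37), (41540861, 37)]
  B := [
    (2, ⟨829, 37, 828, 36, [(2, 2, 2), (3, 2, 2)], 2, 2⟩, ⟨23, 89, 11, 11, [(11, 1, 1)], 0, 0⟩),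
    (3, ⟨3061, 37, 1530, 18, [(2, 1, 1), (3, 2, 2)], 1, 2⟩, ⟨38923, 79, 38922, 78, [(2, 1, 1), (3, 1, 1), (13,
    1, 1)], 1, 1⟩),
    (7, ⟨3061, 37, 765, 9, [(3, 2, 2)], 0, 2⟩, ⟨601, 73, 600, 24, [(2, 3, 3), (3, 1, 1)], 3, 1⟩),
    (11, ⟨38923, 37, 2994, 6, [(2, 1, 1), (3, 1, 1)], 1, 1⟩, ⟨23, 89, 22, 22, [(2, 1, 1), (11, 1, 1)], 1, 0⟩),
    (13, ⟨3061, 37, 3060, 36, [(2, 2, 2), (3, 2, 2)], 2, 2⟩, ⟨38923, 79, 19461, 39, [(3, 1, 1), (13, 1, 1)], 0,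
    1⟩),
    (17, ⟨601, 73, 120, 24, [(2, 3, 3), (3, 1, 1)], 3, 1⟩, ⟨71, 101, 10, 10, [(2, 1, 1), (5, 1, 1)], 1, 0⟩),
    (19, ⟨829, 37, 828, 36, [(2, 2, 2), (3, 2, 2)], 2, 2⟩, ⟨38923, 131, 12974, 26, [(2, 1, 1), (13, 1, 1)], 1,
    0⟩),
    (23, ⟨601, 37, 300, 12, [(2, 2, 2), (3, 1, 1)], 2, 1⟩, ⟨61, 53, 20, 4, [(2, 2, 2)], 2, 0⟩),
    (29, ⟨61, 37, 12, 12, [(2, 2, 2), (3, 1, 1)], 2, 1⟩, ⟨601, 241, 600, 120, [(2, 3, 3), (3, 1, 1), (5, 1, 2)],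
    3, 1⟩),
    (31, ⟨3061, 37, 340, 4, [(2, 2, 2)], 2, 0⟩, ⟨829, 37, 92, 4, [(2, 2, 2)], 2, 0⟩),
    (61, ⟨3061, 37, 3060, 36, [(2, 2, 2), (3, 2, 2)], 2, 2⟩, ⟨19531, 311, 2170, 62, [(2, 1, 1), (31, 1, 1)], 1,
    0⟩),
    (67, ⟨3061, 73, 3060, 36, [(2, 2, 2), (3, 2, 2)], 2, 2⟩, ⟨19531, 379, 1953, 63, [(3, 2, 2), (7, 1, 1)], 0,
    2⟩),
    (71, ⟨829, 73, 414, 18, [(2, 1, 1), (3, 2, 2)], 1, 2⟩, ⟨17, 113, 16, 16, [(2, 4, 4)], 4, 0⟩),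
    (449, ⟨829, 37, 828, 36, [(2, 2, 2), (3, 2, 2)], 2, 2⟩, ⟨23, 89, 11, 11, [(11, 1, 1)], 0, 0⟩),
    (521, ⟨3061, 37, 306, 18, [(2, 1, 1), (3, 2, 2)], 1, 2⟩, ⟨38923, 97, 38922, 6, [(2, 1, 1), (3, 1, 1)], 1,
    1⟩)]
  ch := [
    (5167, 6, [(2, 1), (3, 2), (7, 1), (41, 1)]),
    (5227, 2, [(2, 1), (3, 1), (13, 1), (67, 1)]),
    (5281, 7, [(2, 5), (3, 1), (5, 1), (11, 1)]),
    (7621, 2, [(2, 2), (3, 1), (5, 1), (127, 1)]),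
    (11489, 3, [(2, 5), (359, 1)]),
    (19531, 13, [(2, 1), (3, 2), (5, 1), (7, 1), (31, 1)]),
    (38923, 2, [(2, 1), (3, 1), (13, 1), (499, 1)]),
    (7187, 2, [(2, 1), (3593, 1)]),
    (41540861, 2, [(2, 2), (5, 1), (17, 2), (7187, 1)])]

set_option maxRecDepth 100000 in
theorem U18_5_ok : ldU U18_5 = true := by decide +kernel

end Cfsg.Agent.H510.U
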