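import Cfsg.Agent.H510.UCert

/-!
# Certificate for `PSU(20, 9)` (helper510; generated)
-/

set_option autoImplicit false

namespace Cfsg.Agent.H510.U

open Cfsg.Agent.H510.UCert

def U20_9 : UD where
  n := 20
  q := 9
  p := 3
  a := 2
  fac := [
    (2, 58), (5, 24), (7, 3), (11, 4), (13, 3), (17, 2), (19, 1), (29, 2), (37, 1), (41, 5), (53, 1), (61, 2),
    (73, 6), (193, 2), (547, 1), (757, 1), (1093, 1), (1181, 4), (5501, 1), (6481, 1), (16493, 2), (530713, 2),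
    (570461, 1), (956353, 1), (5301533, 1), (21523361, 1), (42521761, 1), (47763361, 1), (1743831169, 1),
    (4795973261, 1), (25480398173, 1)]
  tops := [
    (11, 5501), (13, 53), (14, 547), (15, 47763361), (16, 21523361), (17, 956353), (18, 757), (19, 5301533)]
  A := [
    (61, 31), (193, 97), (547, 137), (757, 379), (1181, 59), (5501, 131), (6481, 463), (16493, 31), (530713,
    443), (570461, 31), (956353, 293), (5301533, 79), (21523361, 31), (42521761, 21260881), (47763361, 67),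
    (1743831169, 267131), (4795973261, 89), (25480398173, 7878911)]
  B := [
    (2, ⟨21523361, 137, 2690420, 68, [(2, 2, 2), (17, 1, 1)], 2, 0⟩, ⟨53, 157, 52, 52, [(2, 2, 2), (13, 1, 1)],
    2, 0⟩),
    (5, ⟨547, 43, 546, 42, [(2, 1, 1), (3, 1, 1), (7, 1, 1)], 1, 1⟩, ⟨5301533, 317, 279028, 316, [(2, 2, 2),
    (79, 1, 1)], 2, 0⟩),
    (7, ⟨547, 43, 546, 6, [(2, 1, 1), (3, 1, 1)], 1, 1⟩, ⟨757, 109, 189, 27, [(3, 3, 3)], 0, 3⟩),
    (11, ⟨5501, 23, 2750, 22, [(2, 1, 1), (11, 1, 1)], 1, 0⟩, ⟨547, 79, 39, 39, [(3, 1, 1), (13, 1, 1)], 0, 1⟩),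
    (13, ⟨547, 43, 21, 21, [(3, 1, 1), (7, 1, 1)], 0, 1⟩, ⟨5501, 421, 500, 20, [(2, 2, 2), (5, 1, 3)], 2, 0⟩),
    (17, ⟨53, 79, 26, 26, [(2, 1, 1), (13, 1, 1)], 1, 0⟩, ⟨5501, 89, 5500, 44, [(2, 2, 2), (11, 1, 1)], 2, 0⟩),
    (19, ⟨21523361, 83, 269042, 82, [(2, 1, 1), (41, 1, 1)], 1, 0⟩, ⟨547, 127, 273, 3, [(3, 1, 1)], 0, 1⟩),
    (29, ⟨5501, 23, 1375, 11, [(11, 1, 1)], 0, 0⟩, ⟨47763361, 67, 497535, 3, [(3, 1, 1)], 0, 1⟩),
    (37, ⟨547, 31, 546, 6, [(2, 1, 1), (3, 1, 1)], 1, 1⟩, ⟨757, 109, 756, 108, [(2, 2, 2), (3, 3, 3)], 2, 3⟩),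
    (41, ⟨5501, 101, 1100, 20, [(2, 2, 2), (5, 1, 2)], 2, 0⟩, ⟨21523361, 101, 2690420, 20, [(2, 2, 2), (5, 1,
    1)], 2, 0⟩),
    (53, ⟨5501, 131, 1375, 5, [(5, 1, 3)], 0, 0⟩, ⟨5301533, 317, 2650766, 158, [(2, 1, 1), (79, 1, 1)], 1, 0⟩),
    (73, ⟨21523361, 113, 10761680, 16, [(2, 4, 4)], 4, 0⟩, ⟨956353, 257, 318784, 64, [(2, 6, 6)], 6, 0⟩),
    (1093, ⟨5501, 31, 275, 5, [(5, 1, 2)], 0, 0⟩, ⟨757, 109, 189, 27, [(3, 3, 3)], 0, 3⟩)]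
  ch := [
    (5501, 2, [(2, 2), (5, 3), (11, 1)]),
    (6481, 7, [(2, 4), (3, 4), (5, 1)]),
    (16493, 2, [(2, 2), (7, 1), (19, 1), (31, 1)]),
    (26713, 10, [(2, 3), (3, 2), (7, 1), (53, 1)]),
    (267131, 2, [(2, 1), (5, 1), (26713, 1)]),
    (530713, 5, [(2, 3), (3, 6), (7, 1), (13, 1)]),
    (570461, 7, [(2, 2), (5, 1), (11, 1), (2593, 1)]),
    (956353, 7, [(2, 6), (3, 1), (17, 1), (293, 1)]),
    (5301533, 2, [(2, 2), (19, 1), (79, 1), (883, 1)]),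
    (60607, 3, [(2, 1), (3, 2), (7, 1), (13, 1), (37, 1)]),
    (7878911, 17, [(2, 1), (5, 1), (13, 1), (60607, 1)]),
    (21260881, 21, [(2, 4), (3, 4), (5, 1), (17, 1), (193, 1)]),
    (21523361, 6, [(2, 5), (5, 1), (17, 1), (41, 1), (193, 1)]),
    (42521761, 11, [(2, 5), (3, 4), (5, 1), (17, 1), (193, 1)]),
    (47763361, 23, [(2, 5), (3, 2), (5, 1), (41, 1), (809, 1)]),
    (1743831169, 7, [(2, 7), (3, 1), (17, 1), (267131, 1)]),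
    (4795973261, 2, [(2, 2), (5, 1), (13, 2), (89, 1), (107, 1), (149, 1)]),
    (27967, 3, [(2, 1), (3, 1), (59, 1), (79, 1)]),
    (335268397, 2, [(2, 2), (3, 4), (37, 1), (27967, 1)]),
    (25480398173, 2, [(2, 2), (19, 1), (335268397, 1)])]

set_option maxRecDepth 100000 in
theorem U20_9_ok : ldU U20_9 = true := by decide +kernel

end Cfsg.Agent.H510.U
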