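import Cfsg.Agent.H510.UCert

/-!
# Certificate for `PSU(24, 3)` (helper510; generated)
-/

set_option autoImplicit false

namespace Cfsg.Agent.H510.U

open Cfsg.Agent.H510.UCert

def U24_3 : UD where
  n := 24
  q := 3
  p := 3
  a := 1
  fac := [
    (2, 70), (5, 7), (7, 9), (11, 4), (13, 4), (17, 1), (19, 2), (23, 1), (31, 1), (37, 2), (41, 3), (43, 1),
    (61, 4), (67, 2), (73, 2), (103, 1), (193, 1), (271, 1), (307, 1), (547, 3), (661, 2), (757, 1), (1021, 1),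
    (1093, 1), (1181, 1), (2269, 1), (2851, 1), (3851, 1), (6481, 1), (101917, 1), (398581, 1), (23535794707,
    1)]
  tops := [
    (13, 398581), (14, 1093), (15, 31), (16, 193), (17, 1021), (18, 757), (19, 2851), (20, 1181), (21, 43), (22,
    3851), (23, 23535794707)]
  A := [
    (193, 97), (547, 137), (661, 331), (757, 379), (1181, 59), (2269, 227), (3851, 107), (6481, 463), (101917,
    131), (398581, 617), (23535794707, 79)]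
  B := [
    (2, ⟨1093, 29, 364, 28, [(2, 2, 2), (7, 1, 1)], 2, 0⟩, ⟨1021, 137, 340, 68, [(2, 2, 2), (17, 1, 1)], 2, 0⟩),
    (5, ⟨2851, 71, 95, 5, [(5, 1, 1)], 0, 0⟩, ⟨3851, 71, 1925, 5, [(5, 1, 2)], 0, 0⟩),
    (7, ⟨398581, 79, 39858, 78, [(2, 1, 1), (3, 1, 1), (13, 1, 1)], 1, 1⟩, ⟨757, 109, 189, 27, [(3, 3, 3)], 0,
    3⟩),
    (11, ⟨3851, 89, 3850, 22, [(2, 1, 1), (11, 1, 1)], 1, 0⟩, ⟨23535794707, 139, 11767897353, 69, [(3, 1, 1),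
    (23, 1, 1)], 0, 1⟩),
    (13, ⟨1093, 79, 39, 39, [(3, 1, 1), (13, 1, 1)], 0, 1⟩, ⟨23535794707, 139, 11767897353, 69, [(3, 1, 1), (23,
    1, 1)], 0, 1⟩),
    (17, ⟨23535794707, 139, 23535794706, 138, [(2, 1, 1), (3, 1, 1), (23, 1, 1)], 1, 1⟩, ⟨757, 433, 189, 27,
    [(3, 3, 3)], 0, 3⟩),
    (19, ⟨31, 127, 15, 3, [(3, 1, 1)], 0, 1⟩, ⟨23535794707, 139, 23535794706, 138, [(2, 1, 1), (3, 1, 1), (23,
    1, 1)], 1, 1⟩),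
    (23, ⟨1093, 29, 91, 7, [(7, 1, 1)], 0, 0⟩, ⟨3851, 29, 1925, 7, [(7, 1, 1)], 0, 0⟩),
    (31, ⟨398581, 71, 66430, 70, [(2, 1, 1), (5, 1, 1), (7, 1, 1)], 1, 0⟩, ⟨1181, 181, 1180, 20, [(2, 2, 2), (5,
    1, 1)], 2, 0⟩),
    (37, ⟨3851, 71, 1925, 7, [(7, 1, 1)], 0, 0⟩, ⟨757, 109, 756, 108, [(2, 2, 2), (3, 3, 3)], 2, 3⟩),
    (41, ⟨3851, 71, 154, 14, [(2, 1, 1), (7, 1, 1)], 1, 0⟩, ⟨1093, 109, 1092, 12, [(2, 2, 2), (3, 1, 1)], 2, 1⟩),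
    (43, ⟨23535794707, 47, 7845264902, 46, [(2, 1, 1), (23, 1, 1)], 1, 0⟩, ⟨398581, 139, 199290, 6, [(2, 1, 1),
    (3, 1, 1)], 1, 1⟩),
    (61, ⟨2851, 97, 1425, 3, [(3, 1, 1)], 0, 1⟩, ⟨398581, 157, 398580, 156, [(2, 2, 2), (3, 1, 1), (13, 1, 1)],
    2, 1⟩),
    (67, ⟨193, 97, 32, 32, [(2, 5, 5)], 5, 0⟩, ⟨757, 109, 108, 108, [(2, 2, 2), (3, 3, 3)], 2, 3⟩),
    (73, ⟨398581, 131, 66430, 10, [(2, 1, 1), (5, 1, 1)], 1, 0⟩, ⟨1021, 137, 85, 17, [(17, 1, 1)], 0, 0⟩),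
    (103, ⟨1093, 79, 546, 6, [(2, 1, 1), (3, 1, 1)], 1, 1⟩, ⟨1021, 97, 1020, 12, [(2, 2, 2), (3, 1, 1)], 2, 1⟩),
    (271, ⟨1021, 101, 340, 20, [(2, 2, 2), (5, 1, 1)], 2, 0⟩, ⟨1181, 101, 1180, 20, [(2, 2, 2), (5, 1, 1)], 2,
    0⟩),
    (307, ⟨3851, 71, 3850, 14, [(2, 1, 1), (7, 1, 1)], 1, 0⟩, ⟨398581, 97, 398580, 12, [(2, 2, 2), (3, 1, 1)],
    2, 1⟩),
    (1021, ⟨43, 29, 14, 14, [(2, 1, 1), (7, 1, 1)], 1, 0⟩, ⟨757, 109, 756, 108, [(2, 2, 2), (3, 3, 3)], 2, 3⟩),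
    (1093, ⟨3851, 29, 1925, 7, [(7, 1, 1)], 0, 0⟩, ⟨193, 97, 96, 96, [(2, 5, 5), (3, 1, 1)], 5, 1⟩),
    (2851, ⟨1093, 79, 546, 78, [(2, 1, 1), (3, 1, 1), (13, 1, 1)], 1, 1⟩, ⟨757, 127, 126, 126, [(2, 1, 1), (3,
    2, 2), (7, 1, 1)], 1, 2⟩)]
  ch := [
    (6481, 7, [(2, 4), (3, 4), (5, 1)]),
    (101917, 5, [(2, 2), (3, 2), (19, 1), (149, 1)]),
    (398581, 2, [(2, 2), (3, 1), (5, 1), (7, 1), (13, 1), (73, 1)]),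
    (23535794707, 5, [(2, 1), (3, 1), (23, 1), (67, 1), (661, 1), (3851, 1)])]

set_option maxRecDepth 100000 in
theorem U24_3_ok : ldU U24_3 = true := by decide +kernel

end Cfsg.Agent.H510.U
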