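import Cfsg.Agent.H510.UCert

/-!
# Certificate for `PSU(24, 5)` (helper510; generated)
-/

set_option autoImplicit false

namespace Cfsg.Agent.H510.U

open Cfsg.Agent.H510.UCert

def U24_5 : UD where
  n := 24
  q := 5
  p := 5
  a := 1
  fac := [
    (2, 58), (3, 34), (7, 9), (11, 2), (13, 6), (17, 1), (19, 1), (23, 2), (29, 3), (31, 4), (41, 1), (43, 1),
    (47, 1), (61, 1), (67, 2), (71, 2), (127, 1), (313, 3), (449, 3), (521, 4), (601, 2), (761, 1), (829, 1),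
    (3061, 1), (5167, 2), (5227, 1), (5281, 2), (7603, 1), (7621, 1), (9161, 1), (11489, 1), (19531, 1), (19609,
    1), (38923, 1), (213029, 1), (390001, 1), (12207031, 1), (41540861, 1), (42272797713043, 1)]
  tops := [
    (13, 5227), (14, 19531), (15, 61), (17, 3061), (18, 829), (19, 761), (20, 41), (21, 127), (22, 12207031),
    (23, 47), (24, 390001)]
  A := [
    (313, 157), (829, 83), (3061, 1531), (5227, 1307), (5281, 139), (7603, 181), (7621, 37), (9161, 229),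
    (11489, 359), (19531, 257), (19609, 37), (38923, 37), (213029, 263), (390001, 109), (12207031, 167),
    (41540861, 37), (42272797713043, 373)]
  B := [
    (2, ⟨829, 37, 828, 36, [(2, 2, 2), (3, 2, 2)], 2, 2⟩, ⟨761, 229, 380, 76, [(2, 2, 2), (19, 1, 1)], 2, 0⟩),
    (3, ⟨3061, 37, 1530, 18, [(2, 1, 1), (3, 2, 2)], 1, 2⟩, ⟨127, 37, 126, 18, [(2, 1, 1), (3, 2, 2)], 1, 2⟩),
    (7, ⟨3061, 37, 765, 9, [(3, 2, 2)], 0, 2⟩, ⟨61, 181, 60, 12, [(2, 2, 2), (3, 1, 1)], 2, 1⟩),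
    (11, ⟨12207031, 37, 12207030, 6, [(2, 1, 1), (3, 1, 1)], 1, 1⟩, ⟨390001, 97, 390000, 48, [(2, 4, 4), (3, 1,
    1)], 4, 1⟩),
    (13, ⟨3061, 37, 3060, 36, [(2, 2, 2), (3, 2, 2)], 2, 2⟩, ⟨390001, 53, 8125, 13, [(13, 1, 1)], 0, 0⟩),
    (17, ⟨390001, 73, 195000, 24, [(2, 3, 3), (3, 1, 1)], 3, 1⟩, ⟨12207031, 199, 12207030, 66, [(2, 1, 1), (3,
    1, 1), (11, 1, 1)], 1, 1⟩),
    (19, ⟨829, 37, 828, 36, [(2, 2, 2), (3, 2, 2)], 2, 2⟩, ⟨19531, 151, 1085, 5, [(5, 1, 1)], 0, 0⟩),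
    (23, ⟨390001, 37, 97500, 12, [(2, 2, 2), (3, 1, 1)], 2, 1⟩, ⟨61, 53, 20, 4, [(2, 2, 2)], 2, 0⟩),
    (29, ⟨61, 37, 12, 12, [(2, 2, 2), (3, 1, 1)], 2, 1⟩, ⟨19531, 271, 930, 6, [(2, 1, 1), (3, 1, 1)], 1, 1⟩),
    (31, ⟨3061, 37, 340, 4, [(2, 2, 2)], 2, 0⟩, ⟨829, 37, 92, 4, [(2, 2, 2)], 2, 0⟩),
    (41, ⟨19531, 37, 19530, 18, [(2, 1, 1), (3, 2, 2)], 1, 2⟩, ⟨761, 101, 20, 20, [(2, 2, 2), (5, 1, 1)], 2, 0⟩),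
    (43, ⟨41, 37, 20, 4, [(2, 2, 2)], 2, 0⟩, ⟨5227, 53, 1742, 26, [(2, 1, 1), (13, 1, 1)], 1, 0⟩),
    (47, ⟨61, 37, 3, 3, [(3, 1, 1)], 0, 1⟩, ⟨127, 37, 21, 3, [(3, 1, 1)], 0, 1⟩),
    (61, ⟨3061, 37, 3060, 36, [(2, 2, 2), (3, 2, 2)], 2, 2⟩, ⟨127, 97, 21, 3, [(3, 1, 1)], 0, 1⟩),
    (67, ⟨127, 37, 126, 18, [(2, 1, 1), (3, 2, 2)], 1, 2⟩, ⟨3061, 73, 3060, 36, [(2, 2, 2), (3, 2, 2)], 2, 2⟩),
    (71, ⟨127, 37, 63, 9, [(3, 2, 2)], 0, 2⟩, ⟨829, 73, 414, 18, [(2, 1, 1), (3, 2, 2)], 1, 2⟩),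
    (127, ⟨3061, 37, 153, 9, [(3, 2, 2)], 0, 2⟩, ⟨829, 73, 828, 36, [(2, 2, 2), (3, 2, 2)], 2, 2⟩),
    (449, ⟨829, 37, 828, 36, [(2, 2, 2), (3, 2, 2)], 2, 2⟩, ⟨5227, 97, 2613, 3, [(3, 1, 1)], 0, 1⟩),
    (521, ⟨3061, 37, 306, 18, [(2, 1, 1), (3, 2, 2)], 1, 2⟩, ⟨761, 73, 760, 8, [(2, 3, 3)], 3, 0⟩),
    (601, ⟨19531, 37, 1395, 9, [(3, 2, 2)], 0, 2⟩, ⟨47, 139, 23, 23, [(23, 1, 1)], 0, 0⟩),
    (761, ⟨19531, 37, 19530, 18, [(2, 1, 1), (3, 2, 2)], 1, 2⟩, ⟨3061, 37, 1530, 18, [(2, 1, 1), (3, 2, 2)], 1,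
    2⟩),
    (5167, ⟨19531, 73, 19530, 18, [(2, 1, 1), (3, 2, 2)], 1, 2⟩, ⟨3061, 103, 51, 51, [(3, 1, 1), (17, 1, 1)], 0,
    1⟩)]
  ch := [
    (5167, 6, [(2, 1), (3, 2), (7, 1), (41, 1)]),
    (5227, 2, [(2, 1), (3, 1), (13, 1), (67, 1)]),
    (5281, 7, [(2, 5), (3, 1), (5, 1), (11, 1)]),
    (7603, 2, [(2, 1), (3, 1), (7, 1), (181, 1)]),
    (7621, 2, [(2, 2), (3, 1), (5, 1), (127, 1)]),
    (9161, 3, [(2, 3), (5, 1), (229, 1)]),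
    (11489, 3, [(2, 5), (359, 1)]),
    (19531, 13, [(2, 1), (3, 2), (5, 1), (7, 1), (31, 1)]),
    (19609, 13, [(2, 3), (3, 1), (19, 1), (43, 1)]),
    (38923, 2, [(2, 1), (3, 1), (13, 1), (499, 1)]),
    (213029, 2, [(2, 2), (19, 1), (2803, 1)]),
    (390001, 7, [(2, 4), (3, 1), (5, 4), (13, 1)]),
    (12207031, 6, [(2, 1), (3, 1), (5, 1), (11, 1), (71, 1), (521, 1)]),
    (7187, 2, [(2, 1), (3593, 1)]),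
    (41540861, 2, [(2, 2), (5, 1), (17, 2), (7187, 1)]),
    (4523, 5, [(2, 1), (7, 1), (17, 1), (19, 1)]),
    (6983, 5, [(2, 1), (3491, 1)]),
    (13967, 5, [(2, 1), (6983, 1)]),
    (42272797713043, 2, [(2, 1), (3, 1), (13, 1), (23, 1), (373, 1), (4523, 1), (13967, 1)])]

set_option maxRecDepth 100000 in
theorem U24_5_ok : ldU U24_5 = true := by decide +kernel

end Cfsg.Agent.H510.U
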